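import Mathlib
import Cfsg.Agent.H410.OI.Semi

/-!
A semisimilarity commuting with `Ω` is a scalar.
-/

set_option autoImplicit false

namespace Cfsg.Agent.H410.OI

open Cfsg Subgroup Matrix QuadraticMap
open Cfsg.Agent.LieClassical.OrthCore Cfsg.Agent.LieClassical.OrthTrans
open Cfsg.Agent.LieClassical.OrthSimple Cfsg.Agent.LieClassical.OrthFinite
open Cfsg.Agent.AutOrth.Main Cfsg.Agent.AutOrth.SemiSim
open Cfsg.Agent.H323.OI

section generic

variable {F V : Type*} [Field F] [AddCommGroup V] [Module F V] {Q : QuadraticForm F V}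

/-- `E Q` fixes no nonzero vector -/
theorem eq_zero_of_fix (hG : Good Q) {v : V} (h : ∀ g ∈ E Q, g v = v) : v = 0 := by
  obtain ⟨x₀, y₀, h₀⟩ := hG.exists_hyp
  have key : ∀ x, Q x = 0 → polar Q x v = 0 := by
    intro x hx
    by_cases hx0 : x = 0
    · rw [hx0, QuadraticMap.polar_zero_left]
    obtain ⟨y, hy⟩ := Cfsg.Agent.LieClassical.OrthTrans.exists_hyp hG.nondeg hx hx0
    obtain ⟨w, hw0, hw, hxw, hyw⟩ := hG.perp x y hy
    have h1 := h _ (siegel_mem_E hx hxw)
    rw [siegel_apply, hw, zero_mul, zero_smul, sub_zero] at h1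
    have h2 : polar Q x v • w = polar Q w v • x := by
      have : polar Q x v • w - polar Q w v • x = (v + polar Q x v • w - polar Q w v • x) - v := by abel
      rw [← sub_eq_zero, this, h1, sub_self]
    have h3 := congrArg (polar Q y) h2
    rw [polar_smul_right, polar_smul_right, hyw, hy.pair', smul_zero, smul_eq_mul, mul_one] at h3
    rw [← h3, zero_smul] at h2
    exact (smul_eq_zero.1 h2).resolve_right hw0
  refine hG.nondeg v fun w => ?_
  rw [polar_comm]
  refine sing_induction h₀ (P := fun w => polar Q w v = 0) ?_ key w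
  intro a c ha hc
  rw [polar_add_left, ha, hc, add_zero]

/-- a semisimilarity commuting with `E Q` is a scalar -/
theorem scalar_of_comm (hG : Good Q) {σ : F ≃+* F} {μ : F} {T : V ≃+ V} (hT : IsSemi Q T σ μ)
    (h : ∀ g ∈ E Q, ∀ v, T (g v) = g (T v)) :
    (∀ a, σ a = a) ∧ ∃ c : F, c ≠ 0 ∧ ∀ v, T v = c • v := by
  -- singular vectors are mapped to multiples
  have h1 : ∀ x, Q x = 0 → ∃ c : F, T x = c • x := by
    intro x hx
    by_cases hx0 : x = 0
    · exact ⟨0, by rw [hx0, map_zero, smul_zero]⟩
    obtain ⟨x', hx'⟩ := Cfsg.Agent.LieClassical.OrthTrans.exists_hyp hG.nondeg hx hx0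
    have hA : ∀ y (_ : polar Q x y = 0), polar Q x (T x) • y - polar Q y (T x) • x -
        (Q y * polar Q x (T x)) • x = 0 := by
      intro y hy
      have e := h _ (siegel_mem_E hx hy) x
      have e0 : siegel Q x y hx hy x = x := by
        rw [siegel_apply, polar_self_of_sing hx, polar_comm Q y x, hy]
        simp
      rw [e0, siegel_apply] at e
      have : polar Q x (T x) • y - polar Q y (T x) • x - (Q y * polar Q x (T x)) • x =
        (T x + polar Q x (T x) • y - polar Q y (T x) • x - (Q y * polar Q x (T x)) • x) - T x := by abel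
      rw [this, ← e, sub_self]
    obtain ⟨w, hw0, hw, hxw, hyw⟩ := hG.perp x x' hx'
    have hz : polar Q x (T x) = 0 := by
      have e := hA w hxw
      rw [hw, zero_mul, zero_smul, sub_zero] at e
      have e2 := congrArg (polar Q x') e
      rw [QuadraticMap.polar_sub_right, polar_smul_right, polar_smul_right, hyw, hx'.pair', QuadraticMap.polar_zero_right] at e2
      simp only [smul_eq_mul, mul_zero, mul_one, zero_sub, neg_eq_zero] at e2
      rw [e2, zero_smul, sub_zero] at e
      exact (smul_eq_zero.1 e).resolve_right hw0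
    have hB : ∀ y (_ : polar Q x y = 0), polar Q y (T x) = 0 := by
      intro y hy
      have e := hA y hy
      rw [hz, zero_smul, mul_zero, zero_smul, sub_zero, zero_sub, neg_eq_zero] at e
      exact (smul_eq_zero.1 e).resolve_right hx0
    refine ⟨polar Q x' (T x), ?_⟩
    rw [← sub_eq_zero]
    refine hG.nondeg _ fun v => ?_
    have hv : polar Q x (v - polar Q x v • x') = 0 := by
      rw [QuadraticMap.polar_sub_right, polar_smul_right, hx'.pair, smul_eq_mul, mul_one, sub_self]
    have e := hB _ hv
    rw [QuadraticMap.polar_sub_left, polar_smul_left] at e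
    rw [QuadraticMap.polar_sub_left, polar_smul_left, polar_comm Q (T x) v, smul_eq_mul, mul_comm]
    simpa using e
  -- the field automorphism is trivial
  obtain ⟨x, x', hx'⟩ := hG.exists_hyp
  obtain ⟨w, hw0, hw, hxw, hyw⟩ := hG.perp x x' hx'
  obtain ⟨c, hc⟩ := h1 w hw
  have h2 : ∀ a : F, σ a * c = a * polar Q x (T x') := by
    intro a
    have haw : polar Q x (a • w) = 0 := by rw [polar_smul_right, hxw, smul_zero]
    have e := h _ (siegel_mem_E hx'.left haw) x'
    rw [siegel_apply, siegel_apply, hx'.pair, polar_smul_left, polar_comm Q w x', hyw, QuadraticMap.map_smul, hw] at e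
    simp only [smul_zero, zero_mul, zero_smul, sub_zero, one_smul, map_add, hT.smul] at e
    rw [hc, polar_smul_left] at e
    have e2 : σ a • c • w = polar Q x (T x') • a • w - (a • polar Q w (T x')) • x := by
      have e3 : σ a • c • w = (T x' + σ a • c • w) - T x' := by abel
      rw [e3, e]
      abel
    have e4 := congrArg (polar Q x') e2
    rw [QuadraticMap.polar_sub_right, polar_smul_right, polar_smul_right, polar_smul_right, polar_smul_right,
      polar_smul_right, hyw, hx'.pair'] at e4
    simp only [smul_eq_mul, mul_zero, mul_one, zero_sub] at e4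
    have e5 : a • polar Q w (T x') = 0 := by
      rw [smul_eq_mul]
      linear_combination e4
    rw [e5, zero_smul, sub_zero, smul_smul, smul_smul] at e2
    have e6 : (σ a * c - polar Q x (T x') * a) • w = 0 := by rw [sub_smul, e2, sub_self]
    have e7 := (smul_eq_zero.1 e6).resolve_right hw0
    linear_combination e7
  have hc0 : c ≠ 0 := by
    rintro rfl
    rw [zero_smul] at hc
    exact hw0 (T.map_eq_zero_iff.1 hc)
  have h3 : c = polar Q x (T x') := by
    have := h2 1
    rwa [map_one, one_mul, one_mul] at this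
  have hσ : ∀ a, σ a = a := by
    intro a
    have := h2 a
    rw [← h3] at this
    exact mul_right_cancel₀ hc0 this
  refine ⟨hσ, ?_⟩
  have hL : ∀ (a : F) (v : V), T (a • v) = a • T v := fun a v => by rw [hT.smul, hσ]
  let L : V ≃ₗ[F] V := { T with map_smul' := hL }
  obtain ⟨c, hc⟩ := good_eq_smul_of_fix hG (n := L) h1
  refine ⟨c, ?_, hc⟩
  rintro rfl
  have := hc w
  rw [zero_smul] at this
  exact hw0 (T.map_eq_zero_iff.1 this)

end generic

end Cfsg.Agent.H410.OI
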