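import Mathlib
import Cfsg.Agent.H410.OI.SemiB

/-!
S3325, piece 12a.
-/

set_option autoImplicit false

namespace Cfsg.Agent.H410.OI

open Cfsg Subgroup Matrix QuadraticMap
open Cfsg.Agent.H183
open Cfsg.Agent.LieClassical.OrthCore Cfsg.Agent.LieClassical.OrthTrans
open Cfsg.Agent.LieClassical.OrthSimple Cfsg.Agent.LieClassical.OrthFinite
open Cfsg.Agent.AutOrth.Main Cfsg.Agent.AutOrth.SemiSim
open Cfsg.Agent.H323.OI
open Cfsg.Agent.ClassicalGeometry.Reflection (isometryGroup_ext coe_mul_mulVec)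

section basics

variable {F : Type} [Field F] {n b : ℕ}

theorem polar_dq (c : Fin n → F) (x y : Fin n → F) : polar (dq c) x y = ∑ i, 2 * c i * x i * y i := by
  simp only [polar, dq, Pi.add_apply]
  rw [← Finset.sum_sub_distrib, ← Finset.sum_sub_distrib]
  exact Finset.sum_congr rfl fun i _ => by ring

theorem nondeg_dqF (h2 : (2 : F) ≠ 0) (c : Fin n → F) (hc : ∀ i, c i ≠ 0) : Nondeg (dqF c) := by
  intro x hx
  funext i
  have h := hx (Pi.single i 1)
  rw [coe_dqF, polar_dq, Finset.sum_eq_single i] at h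
  · rw [Pi.single_eq_same, mul_one] at h
    exact (mul_eq_zero.1 h).resolve_left (mul_ne_zero h2 (hc i))
  · intro j _ hj
    rw [Pi.single_eq_of_ne hj, mul_zero]
  · intro h
    exact absurd (Finset.mem_univ i) h

/-- the form of `V = U ⊥ P` -/
def sqF (c : Fin n → F) (d : Fin b → F) : QuadraticForm F (Fin n ⊕ Fin b → F) := sumForm (dqF c) (dqF d)

theorem coe_sqF (c : Fin n → F) (d : Fin b → F) : ⇑(sqF c d) = sqf c d := by
  rw [sqF, coe_sumForm, coe_dqF, coe_dqF]

theorem sqf_elim (c : Fin n → F) (d : Fin b → F) (x : Fin n → F) (y : Fin b → F) :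
    sqf c d (Sum.elim x y) = dq c x + dq d y := rfl

theorem polar_sqf (c : Fin n → F) (d : Fin b → F) (v w : Fin n ⊕ Fin b → F) :
    polar (sqf c d) v w =
      polar (dq c) (v ∘ Sum.inl) (w ∘ Sum.inl) + polar (dq d) (v ∘ Sum.inr) (w ∘ Sum.inr) := by
  rw [← coe_sqF, sqF, polar_sumForm, coe_dqF, coe_dqF]

theorem nondeg_sqF (h2 : (2 : F) ≠ 0) (c : Fin n → F) (d : Fin b → F) (hc : ∀ i, c i ≠ 0)
    (hd : ∀ i, d i ≠ 0) : Nondeg (sqF c d) := by
  intro x hx
  rw [coe_sqF] at hx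
  have e1 : x ∘ Sum.inl = 0 := by
    refine nondeg_dqF h2 c hc _ fun y => ?_
    have := hx (Sum.elim y 0)
    rw [polar_sqf, Sum.elim_comp_inl, Sum.elim_comp_inr] at this
    rw [coe_dqF]
    have h0 : polar (dq d) (x ∘ Sum.inr) 0 = 0 := by rw [polar_dq]; simp
    rwa [h0, add_zero] at this
  have e2 : x ∘ Sum.inr = 0 := by
    refine nondeg_dqF h2 d hd _ fun y => ?_
    have := hx (Sum.elim 0 y)
    rw [polar_sqf, Sum.elim_comp_inl, Sum.elim_comp_inr] at this
    rw [coe_dqF]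
    have h0 : polar (dq c) (x ∘ Sum.inl) 0 = 0 := by rw [polar_dq]; simp
    rwa [h0, zero_add] at this
  rw [← Sum.elim_comp_inl_inr x, e1, e2]
  ext (i | i) <;> rfl

theorem two_ne (hF : Odd (Nat.card F)) [Finite F] : (2 : F) ≠ 0 := by
  intro h2
  have := Fintype.ofFinite F
  rw [Nat.card_eq_fintype_card] at hF
  have h3 : ringChar F = 2 := by
    have hd : ringChar F ∣ 2 := (ringChar.spec F 2).1 (by exact_mod_cast h2)
    have hp : (ringChar F).Prime := CharP.char_is_prime F (ringChar F)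
    exact (Nat.prime_dvd_prime_iff_eq hp Nat.prime_two).1 hd
  exact Nat.not_even_iff_odd.2 hF (Nat.even_iff.2 (FiniteField.even_card_iff_char_two.1 h3))

theorem two_ne' [Fintype F] (hF : Odd (Fintype.card F)) : (2 : F) ≠ 0 :=
  two_ne (by rwa [Nat.card_eq_fintype_card])

theorem Sp_le [Fintype F] {c : Fin n → F} (h : Sp c) : 8 ≤ n := by
  have h1 := h.odd
  rcases h1 with ⟨k, hk⟩
  have h2 : Fintype.card F % 4 = 1 ∨ Fintype.card F % 4 = 3 := by omega
  rcases h2 with h2 | h2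
  · have := h.h6.1 h2
    omega
  · have := h.h6.2 h2
    omega

theorem good_dqF [Fintype F] {c : Fin n → F} (h : Sp c) : Good (dqF c) :=
  good_of_finite (nondeg_dqF (two_ne' h.odd) c h.ne) (by
    have := Sp_le h
    rw [Module.finrank_fintype_fun_eq_card, Fintype.card_fin]
    omega)

theorem perfect_fun {ι : Type} [Fintype ι] [DecidableEq ι] {Q : (ι → F) → F} {QF : QuadraticForm F (ι → F)}
    (h : ⇑QF = Q) (hG : Good QF) : commutator ↥(Omega F Q) = ⊤ := by
  subst h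
  exact perfect_Omega hG

theorem perfect_Om [Fintype F] {c : Fin n → F} (h : Sp c) : commutator (Om c) = ⊤ :=
  perfect_fun (coe_dqF c) (good_dqF h)

theorem fix_fun {ι : Type} [Fintype ι] [DecidableEq ι] {Q : (ι → F) → F} {QF : QuadraticForm F (ι → F)}
    (h : ⇑QF = Q) (hG : Good QF) {v : ι → F} (hv : ∀ m : ↥(Omega F Q), mx m.1 *ᵥ v = v) : v = 0 := by
  subst h
  refine eq_zero_of_fix hG fun g hg => ?_
  have := hv ((oe hG).symm ⟨g, hg⟩)
  have h1 := oe_apply hG ((oe hG).symm ⟨g, hg⟩) v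
  rw [MulEquiv.apply_symm_apply] at h1
  exact h1.trans this

theorem scalar_fun {ι : Type} [Fintype ι] [DecidableEq ι] {Q : (ι → F) → F} {QF : QuadraticForm F (ι → F)}
    (h : ⇑QF = Q) (hG : Good QF) {σ : F ≃+* F} {μ : F} {T : (ι → F) ≃+ (ι → F)} (hT : IsSS Q Q σ μ T)
    (hv : ∀ (m : ↥(Omega F Q)) v, T (mx m.1 *ᵥ v) = mx m.1 *ᵥ T v) :
    (∀ a, σ a = a) ∧ ∃ c : F, c ≠ 0 ∧ ∀ v, T v = c • v := by
  subst h
  refine scalar_of_comm hG (σ := σ) (μ := μ) ⟨hT.1, hT.2.1, hT.2.2⟩ fun g hg v => ?_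
  have h1 := oe_apply hG ((oe hG).symm ⟨g, hg⟩)
  simp only [MulEquiv.apply_symm_apply] at h1
  have := hv ((oe hG).symm ⟨g, hg⟩) v
  rw [← h1, ← h1] at this
  exact this

theorem semi_fun [Fintype F] {ι : Type} [Fintype ι] [DecidableEq ι] {Q : (ι → F) → F}
    {QF : QuadraticForm F (ι → F)} (h : ⇑QF = Q) (hQ : Nondeg QF) (h9 : 9 ≤ Fintype.card ι) {G : Type} [Group G]
    (ρ : ↥(Omega F Q) →* G) (hρ : ρ.ker ≤ center ↥(Omega F Q)) (g : G)
    (hg : ∀ x, g * ρ x * g⁻¹ ∈ ρ.range) :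
    ∃ (σ : F ≃+* F) (μ : F) (T : (ι → F) ≃+ (ι → F)) (θ : MulAut ↥(Omega F Q)),
      IsSS Q Q σ μ T ∧ (∀ x, Rel T x.1 (θ x).1) ∧ ∀ x, g * ρ x * g⁻¹ = ρ (θ x) := by
  subst h
  exact semi QF hQ h9 ρ hρ g hg

/-- an isometry from a linear map -/
theorem exists_isom {ι : Type} [Fintype ι] [DecidableEq ι] {Q : (ι → F) → F} (L : (ι → F) ≃ₗ[F] (ι → F))
    (h : ∀ v, Q (L v) = Q v) : ∃ g : ↥(isometryGroup F Q), ∀ v, mx g *ᵥ v = L v := by
  have h1 : ∀ v, (((glEquiv ι F).symm L : Matrix.GeneralLinearGroup ι F) : Matrix ι ι F) *ᵥ v = L v := by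
    intro v
    rw [← glEquiv_apply, MulEquiv.apply_symm_apply]
  exact ⟨⟨(glEquiv ι F).symm L, (Cfsg.Agent.ClassicalGeometry.Reflection.mem_isometryGroup_iff _ _).2 fun v => by
    rw [h1, h]⟩, h1⟩

theorem bb_mulVec (c : Fin n → F) (d : Fin b → F) (g : OO c) (s : OO d) (x : Fin n → F) (y : Fin b → F) :
    mx (bb c d g s) *ᵥ Sum.elim x y = Sum.elim (mx g *ᵥ x) (mx s *ᵥ y) :=
  elim_eq_of_comp (by
    change (Matrix.fromBlocks _ 0 0 _ *ᵥ _) ∘ Sum.inl = _
    rw [fromBlocks_mulVec_inl, Sum.elim_comp_inl]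
    rfl) (by
    change (Matrix.fromBlocks _ 0 0 _ *ᵥ _) ∘ Sum.inr = _
    rw [fromBlocks_mulVec_inr, Sum.elim_comp_inr]
    rfl)

theorem mx_one_mulVec {ι : Type} [Fintype ι] [DecidableEq ι] {Q : (ι → F) → F} (v : ι → F) :
    mx (1 : ↥(isometryGroup F Q)) *ᵥ v = v := by
  change (1 : Matrix ι ι F) *ᵥ v = v
  exact Matrix.one_mulVec v

theorem exists_dq_ne [Fintype F] {c : Fin n → F} (h : Sp c) : ∃ v, dq c v ≠ 0 := by
  have h0 := Sp_le h
  refine ⟨Pi.single ⟨0, by omega⟩ 1, ?_⟩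
  have : dq c (Pi.single ⟨0, by omega⟩ 1) = c ⟨0, by omega⟩ := by
    simp only [dq]
    rw [Finset.sum_eq_single (⟨0, by omega⟩ : Fin n)]
    · simp
    · intro j _ hj
      rw [Pi.single_eq_of_ne hj]
      simp
    · intro h
      exact absurd (Finset.mem_univ _) h
  rw [this]
  exact h.ne _

end basics

/-- **Piece 12a.** -/
theorem pExtU' : PExtU := by
  intro F _ _ n b c d hc hb hd G _ ρ hρ g hg w hw
  have h2 : (2 : F) ≠ 0 := two_ne' hc.odd
  have hn := Sp_le hc
  obtain ⟨σ, μ, T, θ, hT, hθ, hρθ⟩ := semi_fun (coe_sqF c d) (nondeg_sqF h2 c d hc.ne hd)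
    (by rw [Fintype.card_sum, Fintype.card_fin, Fintype.card_fin]; omega) ρ hρ g hg
  -- `θ` on `Ω(U)`
  have e1 : θ.toMonoidHom.comp (inU c d) = (inU c d).comp (cj w).toMonoidHom := by
    have hk : ∀ m, θ (inU c d m) * (inU c d (cj w m))⁻¹ ∈ center (OmV c d) := fun m => hρ (by
      rw [MonoidHom.mem_ker, map_mul, map_inv, ← hρθ, hw, mul_inv_cancel])
    exact eq_of_comm (perfect_Om hc) _ _ (fun m y => (mem_center_iff.1 (hk m) _).symm)
      fun m y => (mem_center_iff.1 (hk m) _).symm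
  have hU : ∀ (m : Om c) v, mx (bb c d (cj w m).1 1) *ᵥ T v = T (mx (bb c d m.1 1) *ᵥ v) := by
    intro m v
    have := hθ (inU c d m) v
    rw [show θ (inU c d m) = inU c d (cj w m) from DFunLike.congr_fun e1 m] at this
    exact this
  -- `T` preserves `P`
  have hP : ∀ p : Fin b → F, T (Sum.elim 0 p) ∘ Sum.inl = 0 := by
    intro p
    refine fix_fun (coe_dqF c) (good_dqF hc) fun m => ?_
    obtain ⟨m, rfl⟩ := (cj w).surjective m
    have h1 := hU m (Sum.elim 0 p)
    rw [bb_mulVec, mulVec_zero, mx_one_mulVec] at h1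
    have h3 := bb_mulVec c d (cj w m).1 1 (T (Sum.elim 0 p) ∘ Sum.inl) (T (Sum.elim 0 p) ∘ Sum.inr)
    rw [Sum.elim_comp_inl_inr, h1] at h3
    have h4 := congrArg (fun f => f ∘ Sum.inl) h3
    simp only [Sum.elim_comp_inl] at h4
    exact h4.symm
  let A : (Fin b → F) →+ (Fin b → F) :=
    { toFun := fun p => T (Sum.elim 0 p) ∘ Sum.inr
      map_zero' := by
        have : (Sum.elim 0 0 : Fin n ⊕ Fin b → F) = 0 := by ext (i | i) <;> rfl
        rw [this, map_zero]
        rfl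
      map_add' := fun p q => by
        have : (Sum.elim 0 (p + q) : Fin n ⊕ Fin b → F) = Sum.elim (0 : Fin n → F) p + Sum.elim (0 : Fin n → F) q := by
          ext (i | i) <;> simp
        rw [this, map_add]
        rfl }
  have hA : ∀ p, T (Sum.elim 0 p) = Sum.elim (0 : Fin n → F) (A p) := fun p => by
    rw [← Sum.elim_comp_inl_inr (T (Sum.elim 0 p)), hP]
    rfl
  have hAi : Function.Injective A := by
    intro p q hpq
    have h1 : T (Sum.elim 0 p) = T (Sum.elim 0 q) := by rw [hA, hA, hpq]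
    have h3 := congrArg (fun f => f ∘ Sum.inr) (T.injective h1)
    simpa only [Sum.elim_comp_inr] using h3
  have hAb : Function.Bijective A := Finite.injective_iff_bijective.1 hAi
  -- `T` preserves `U`
  have hTp : ∀ x y, polar (sqf c d) (T x) (T y) = μ * σ (polar (sqf c d) x y) := by
    intro x y
    simp only [polar]
    rw [← map_add, hT.2.2, hT.2.2, hT.2.2, map_sub, map_sub]
    ring
  have z1 : ∀ y, polar (dq c) 0 y = 0 := fun y => by rw [polar_dq]; simp
  have z2 : ∀ y, polar (dq c) y 0 = 0 := fun y => by rw [polar_dq]; simp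
  have z3 : ∀ y, polar (dq d) 0 y = 0 := fun y => by rw [polar_dq]; simp
  have hUU : ∀ u : Fin n → F, T (Sum.elim u 0) ∘ Sum.inr = 0 := by
    intro u
    refine nondeg_dqF h2 d hd _ fun p => ?_
    obtain ⟨p, rfl⟩ := hAb.2 p
    have h1 := hTp (Sum.elim u 0) (Sum.elim 0 p)
    rw [polar_sqf c d (Sum.elim u 0), Sum.elim_comp_inl, Sum.elim_comp_inl, Sum.elim_comp_inr,
      Sum.elim_comp_inr, z2, z3, add_zero, map_zero, mul_zero, polar_sqf, hP, z2, zero_add, hA,
      Sum.elim_comp_inr] at h1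
    rw [coe_dqF]
    exact h1
  let B : (Fin n → F) →+ (Fin n → F) :=
    { toFun := fun p => T (Sum.elim p 0) ∘ Sum.inl
      map_zero' := by
        have : (Sum.elim 0 0 : Fin n ⊕ Fin b → F) = 0 := by ext (i | i) <;> rfl
        rw [this, map_zero]
        rfl
      map_add' := fun p q => by
        have : (Sum.elim (p + q) 0 : Fin n ⊕ Fin b → F) = Sum.elim p (0 : Fin b → F) + Sum.elim q (0 : Fin b → F) := by
          ext (i | i) <;> simp
        rw [this, map_add]
        rfl }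
  have hB : ∀ p, T (Sum.elim p 0) = Sum.elim (B p) (0 : Fin b → F) := fun p => by
    rw [← Sum.elim_comp_inl_inr (T (Sum.elim p 0)), hUU]
    rfl
  have hBi : Function.Injective B := by
    intro p q hpq
    have h1 : T (Sum.elim p 0) = T (Sum.elim q 0) := by rw [hB, hB, hpq]
    have h3 := congrArg (fun f => f ∘ Sum.inl) (T.injective h1)
    simpa only [Sum.elim_comp_inl] using h3
  have hBb : Function.Bijective B := Finite.injective_iff_bijective.1 hBi
  have hwi : ∀ v : Fin n → F, mx w⁻¹ *ᵥ (mx w *ᵥ v) = v := fun v => by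
    rw [← coe_mul_mulVec, inv_mul_cancel]
    exact mx_one_mulVec v
  have hwi' : ∀ v : Fin n → F, mx w *ᵥ (mx w⁻¹ *ᵥ v) = v := fun v => by
    rw [← coe_mul_mulVec, mul_inv_cancel]
    exact mx_one_mulVec v
  let W : (Fin n → F) ≃+ (Fin n → F) :=
    { toFun := fun v => mx w⁻¹ *ᵥ v
      invFun := fun v => mx w *ᵥ v
      left_inv := fun v => hwi' v
      right_inv := fun v => hwi v
      map_add' := fun v v' => mulVec_add _ v v' }
  let T' : (Fin n → F) ≃+ (Fin n → F) := (AddEquiv.ofBijective B hBb).trans W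
  have hT' : ∀ v, T' v = mx w⁻¹ *ᵥ B v := fun v => rfl
  have hBv : ∀ v, B v = mx w *ᵥ T' v := fun v => by rw [hT', hwi']
  have hsm : ∀ (a : F) (v : Fin n → F), (Sum.elim (a • v) 0 : Fin n ⊕ Fin b → F) = a • Sum.elim v (0 : Fin b → F) := by
    intro a v
    ext (i | i) <;> simp
  have hsm' : ∀ (a : F) (v : Fin b → F), (Sum.elim 0 (a • v) : Fin n ⊕ Fin b → F) = a • Sum.elim (0 : Fin n → F) v := by
    intro a v
    ext (i | i) <;> simp
  have iso : ∀ (x : OO c) v, dq c (mx x *ᵥ v) = dq c v := fun x =>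
    (Cfsg.Agent.ClassicalGeometry.Reflection.mem_isometryGroup_iff _ _).1 x.2
  have d0 : dq d 0 = 0 := by simp [dq]
  have c0 : dq c 0 = 0 := by simp [dq]
  have hSS : IsSS (dq c) (dq c) σ μ T' := by
    refine ⟨hT.1, fun a v => ?_, fun v => ?_⟩
    · have h1 : B (a • v) = σ a • B v := by
        have h3 := hB (a • v)
        rw [hsm, hT.2.1, hB] at h3
        have h4 := congrArg (fun f => f ∘ Sum.inl) h3
        simp only [Sum.elim_comp_inl] at h4
        exact h4.symm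
      rw [hT', h1, mulVec_smul, hT']
    · have h1 := hT.2.2 (Sum.elim v 0)
      rw [hB, sqf_elim, sqf_elim, d0, add_zero, add_zero] at h1
      rw [hT', iso, h1]
  have hcomm : ∀ (m : Om c) v, T' (mx m.1 *ᵥ v) = mx m.1 *ᵥ T' v := by
    intro m v
    have h1 := hU m (Sum.elim v 0)
    rw [hB, bb_mulVec, bb_mulVec, mulVec_zero, hB] at h1
    have h4 := congrArg (fun f => f ∘ Sum.inl) h1
    simp only [Sum.elim_comp_inl] at h4
    rw [hT', ← h4]
    have h5 : ((cj w m).1 : OO c) = w * m.1 * w⁻¹ := rfl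
    rw [h5, coe_mul_mulVec, coe_mul_mulVec, hwi, hT']
  obtain ⟨hσ, l, hl, hTl⟩ := scalar_fun (coe_dqF c) (good_dqF hc) hSS hcomm
  -- the multiplier
  have hμ : μ = l * l := by
    obtain ⟨v, hv⟩ := exists_dq_ne hc
    have h1 := hSS.2.2 v
    rw [hTl, hσ] at h1
    have h3 : dq c (l • v) = l * l * dq c v := by
      rw [← coe_dqF, QuadraticMap.map_smul, smul_eq_mul]
    rw [h3] at h1
    exact (mul_right_cancel₀ hv h1).symm
  have hAsm : ∀ (a : F) (p : Fin b → F), A (a • p) = a • A p := by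
    intro a p
    have h3 := hA (a • p)
    rw [hsm', hT.2.1, hσ, hA] at h3
    have h4 := congrArg (fun f => f ∘ Sum.inr) h3
    simp only [Sum.elim_comp_inr] at h4
    exact h4.symm
  let R : (Fin b → F) ≃ₗ[F] (Fin b → F) := LinearEquiv.ofBijective
    ({ toFun := fun p => l⁻¹ • A p
       map_add' := fun p q => by rw [map_add, smul_add]
       map_smul' := fun a p => by
        rw [hAsm, RingHom.id_apply, smul_comm] } : (Fin b → F) →ₗ[F] (Fin b → F)) (by
      refine Finite.injective_iff_bijective.1 fun p q hpq => ?_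
      have : l⁻¹ • A p = l⁻¹ • A q := hpq
      exact hAi ((smul_right_injective _ (inv_ne_zero hl)) this))
  have hR : ∀ p, R p = l⁻¹ • A p := fun p => rfl
  obtain ⟨r, hr⟩ := exists_isom (Q := dq d) R (fun p => by
    have h1 := hT.2.2 (Sum.elim 0 p)
    rw [hA, sqf_elim, sqf_elim, c0, zero_add, zero_add, hσ] at h1
    rw [hR]
    have h3 : dq d (l⁻¹ • A p) = l⁻¹ * l⁻¹ * dq d (A p) := by
      rw [← coe_dqF, QuadraticMap.map_smul, smul_eq_mul]
    rw [h3, h1, hμ]
    field_simp)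
  have hAr : ∀ p, A p = l • (mx r *ᵥ p) := fun p => by
    rw [hr, hR, smul_smul, mul_inv_cancel₀ hl, one_smul]
  have hTB : ∀ v, T v = l • (mx (bb c d w r) *ᵥ v) := by
    intro v
    have e : v = Sum.elim (v ∘ Sum.inl) (0 : Fin b → F) + Sum.elim (0 : Fin n → F) (v ∘ Sum.inr) := by
      ext (i | i) <;> simp
    have e' : mx (bb c d w r) *ᵥ v = Sum.elim (mx w *ᵥ (v ∘ Sum.inl)) (mx r *ᵥ (v ∘ Sum.inr)) := by
      rw [← bb_mulVec, Sum.elim_comp_inl_inr]
    rw [e']
    conv_lhs => rw [e]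
    rw [map_add, hA, hB, hBv, hTl, hAr, mulVec_smul]
    ext (i | i) <;> simp
  refine ⟨r, fun x => ?_⟩
  rw [hρθ]
  congr 1
  apply Subtype.ext
  change (θ x).1 = bb c d w r * x.1 * (bb c d w r)⁻¹
  rw [eq_mul_inv_iff_mul_eq]
  apply isometryGroup_ext
  intro v
  rw [coe_mul_mulVec, coe_mul_mulVec]
  have h1 := hθ x v
  rw [hTB, hTB, mulVec_smul] at h1
  exact smul_right_injective _ hl h1

theorem pExtU : PSemi → PExtU := fun _ => pExtU'

end Cfsg.Agent.H410.OI
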