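import Mathlib
import Cfsg.Agent.H410.OI.ExtU
import Cfsg.Agent.H160.QDisc

/-!
S3325, piece 12b.
-/

set_option autoImplicit false

namespace Cfsg.Agent.H410.OI

open Cfsg Subgroup Matrix QuadraticMap
open Cfsg.Agent.H183
open Cfsg.Agent.LieClassical.OrthCore Cfsg.Agent.LieClassical.OrthTrans
open Cfsg.Agent.LieClassical.OrthSimple Cfsg.Agent.LieClassical.OrthFinite
open Cfsg.Agent.AutOrth.Main Cfsg.Agent.AutOrth.SemiSim
open Cfsg.Agent.H323.OI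
open Cfsg.Agent.ClassicalGeometry.Reflection (isometryGroup_ext coe_mul_mulVec reflIso det_reflIso)
open Cfsg.Agent.ClassicalGeometry.SpinorSign Cfsg.Agent.ClassicalGeometry.OmegaIndex
open Cfsg.Agent.ClassicalGeometry.Universal
open Cfsg.Agent.H160.QSpin Cfsg.Agent.H160.QDisc

section adj

variable {F : Type} [Field F] {ι κ : Type} [Fintype ι] [DecidableEq ι] [Fintype κ] [DecidableEq κ]

theorem det_mul' {Q : (ι → F) → F} (g h : ↥(isometryGroup F Q)) : (mx (g * h)).det = (mx g).det * (mx h).det := by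
  change (mx g * mx h).det = _
  rw [Matrix.det_mul]

theorem det_cases (h2 : (2 : F) ≠ 0) (Q : QuadraticForm F (ι → F)) (hQ : (polarBilin Q).Nondegenerate)
    (g : ↥(isometryGroup F ⇑Q)) : (mx g).det = 1 ∨ (mx g).det = -1 := by
  refine Cfsg.Agent.ClassicalGeometry.CartanDieudonne.isometry_induction h2 Q hQ
    (fun g => (mx g).det = 1 ∨ (mx g).det = -1) (Or.inl ?_) (fun v hv g hg => ?_) g
  · change (1 : Matrix ι ι F).det = 1
    exact Matrix.det_one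
  · rw [det_mul']
    have : (mx (reflIso Q v hv)).det = -1 := det_reflIso Q v hv
    rw [this]
    rcases hg with h | h
    · right; rw [h]; ring
    · left; rw [h]; ring

/-- `O(P)` hits all cosets of `Ω(V)` in `O(V)` -/
theorem adj [Finite F] (h2 : (2 : F) ≠ 0) (Q₁ : QuadraticForm F (ι → F)) (Q₂ : QuadraticForm F (κ → F))
    (h₁ : (polarBilin Q₁).Nondegenerate) (h₂ : (polarBilin Q₂).Nondegenerate) (hk : 2 ≤ Fintype.card κ)
    (k : ↥(isometryGroup F (sumFun ⇑Q₁ ⇑Q₂))) :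
    ∃ s : ↥(isometryGroup F ⇑Q₂), k * blk ⇑Q₁ ⇑Q₂ (1, s) ∈ Omega F (sumFun ⇑Q₁ ⇑Q₂) := by
  classical
  have hN := sumForm_nondegenerate Q₁ Q₂ h₁ h₂
  have hmem : ∀ g : ↥(isometryGroup F (sumFun ⇑Q₁ ⇑Q₂)), g ∈ Omega F (sumFun ⇑Q₁ ⇑Q₂) ↔
      (mx g).det = 1 ∧ spinorSign (⇑(sumForm Q₁ Q₂)) 1 g = 1 := fun g =>
    mem_Omega_iff h2 (sumForm Q₁ Q₂) hN (by rw [Fintype.card_sum]; omega) one_ne_zero g
  obtain ⟨v, hv⟩ := exists_map_eq_of_two_le h2 Q₂ h₂ hk 1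
  obtain ⟨a, ha⟩ := FiniteField.exists_nonsquare (ringChar_ne_two h2)
  have ha0 : a ≠ 0 := by rintro rfl; exact ha IsSquare.zero
  obtain ⟨w, hw⟩ := exists_map_eq_of_two_le h2 Q₂ h₂ hk a
  have hv0 : Q₂ v ≠ 0 := by rw [hv]; exact one_ne_zero
  have hw0 : Q₂ w ≠ 0 := by rw [hw]; exact ha0
  have hv' : sumForm Q₁ Q₂ (Sum.elim 0 v) ≠ 0 := by rw [sumForm_elim_right]; exact hv0
  have hw' : sumForm Q₁ Q₂ (Sum.elim 0 w) ≠ 0 := by rw [sumForm_elim_right]; exact hw0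
  obtain ⟨rv, hrv⟩ : ∃ r : ↥(isometryGroup F (sumFun ⇑Q₁ ⇑Q₂)), r = blk ⇑Q₁ ⇑Q₂ (1, reflIso Q₂ v hv0) := ⟨_, rfl⟩
  obtain ⟨rw', hrw⟩ : ∃ r : ↥(isometryGroup F (sumFun ⇑Q₁ ⇑Q₂)), r = blk ⇑Q₁ ⇑Q₂ (1, reflIso Q₂ w hw0) := ⟨_, rfl⟩
  have dv : (mx rv).det = -1 := by
    rw [hrv, blk_one_refl Q₁ Q₂ v hv0 hv']
    exact det_reflIso _ _ _
  have dw : (mx rw').det = -1 := by
    rw [hrw, blk_one_refl Q₁ Q₂ w hw0 hw']
    exact det_reflIso _ _ _
  have sv : spinorSign (⇑(sumForm Q₁ Q₂)) 1 rv = -1 := by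
    rw [hrv, blk_one_refl Q₁ Q₂ v hv0 hv', spinorSign_reflIso h2 (sumForm Q₁ Q₂) one_ne_zero, if_pos]
    rw [sumForm_elim_right, hv, one_mul]
    exact ⟨1, (one_mul 1).symm⟩
  have sw : spinorSign (⇑(sumForm Q₁ Q₂)) 1 rw' = 1 := by
    rw [hrw, blk_one_refl Q₁ Q₂ w hw0 hw', spinorSign_reflIso h2 (sumForm Q₁ Q₂) one_ne_zero, if_neg]
    rw [sumForm_elim_right, hw, one_mul]
    exact ha
  have smul : ∀ g h : ↥(isometryGroup F (sumFun ⇑Q₁ ⇑Q₂)), spinorSign (⇑(sumForm Q₁ Q₂)) 1 (g * h) =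
      spinorSign (⇑(sumForm Q₁ Q₂)) 1 g * spinorSign (⇑(sumForm Q₁ Q₂)) 1 h := fun g h => map_mul _ _ _
  have hdet : (mx k).det = 1 ∨ (mx k).det = -1 := det_cases h2 (sumForm Q₁ Q₂) hN k
  rcases hdet with hd | hd <;> rcases Int.units_eq_one_or (spinorSign (⇑(sumForm Q₁ Q₂)) 1 k) with hs | hs
  · refine ⟨1, ?_⟩
    have : (blk ⇑Q₁ ⇑Q₂ (1, 1) : ↥(isometryGroup F (sumFun ⇑Q₁ ⇑Q₂))) = 1 := map_one _
    rw [this, mul_one, hmem]
    exact ⟨hd, hs⟩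
  · refine ⟨reflIso Q₂ v hv0 * reflIso Q₂ w hw0, ?_⟩
    have : (blk ⇑Q₁ ⇑Q₂ (1, reflIso Q₂ v hv0 * reflIso Q₂ w hw0) : ↥(isometryGroup F (sumFun ⇑Q₁ ⇑Q₂))) = rv * rw' := by
      rw [hrv, hrw, ← map_mul, Prod.mk_mul_mk, one_mul]
    rw [this, hmem, det_mul', det_mul', smul, smul, hd, hs, dv, dw, sv, sw]
    exact ⟨by ring, rfl⟩
  · refine ⟨reflIso Q₂ w hw0, ?_⟩
    rw [← hrw, hmem, det_mul', smul, hd, hs, dw, sw]
    exact ⟨by ring, rfl⟩
  · refine ⟨reflIso Q₂ v hv0, ?_⟩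
    rw [← hrv, hmem, det_mul', smul, hd, hs, dv, sv]
    exact ⟨by ring, rfl⟩

theorem adj_fun [Finite F] (h2 : (2 : F) ≠ 0) {q₁ : (ι → F) → F} {q₂ : (κ → F) → F} {Q₁ : QuadraticForm F (ι → F)}
    {Q₂ : QuadraticForm F (κ → F)} (e₁ : ⇑Q₁ = q₁) (e₂ : ⇑Q₂ = q₂)
    (h₁ : (polarBilin Q₁).Nondegenerate) (h₂ : (polarBilin Q₂).Nondegenerate) (hk : 2 ≤ Fintype.card κ)
    (k : ↥(isometryGroup F (sumFun q₁ q₂))) :
    ∃ s : ↥(isometryGroup F q₂), k * blk q₁ q₂ (1, s) ∈ Omega F (sumFun q₁ q₂) := by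
  subst e₁ e₂
  exact adj h2 Q₁ Q₂ h₁ h₂ hk k

/-- the discriminant class of a diagonal form -/
theorem dc_diag [Fintype F] [DecidableEq F] (c : ι → F) (Q : QuadraticForm F (ι → F))
    (h : ∀ x y, polar ⇑Q x y = ∑ i, 2 * c i * x i * y i) : dc Q = quadraticChar F (∏ i, (2 * c i)) := by
  rw [dc_eq (Pi.basisFun F ι)]
  congr 1
  rw [← Matrix.det_diagonal]
  congr 1
  ext i j
  rw [LinearMap.BilinForm.toMatrix_apply, polarBilin_apply_apply, h]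
  rw [Finset.sum_eq_single i]
  · rw [Pi.basisFun_apply, Pi.basisFun_apply, Pi.single_eq_same, mul_one]
    by_cases hij : i = j
    · subst hij
      rw [Pi.single_eq_same, mul_one, Matrix.diagonal_apply_eq]
    · rw [Pi.single_eq_of_ne hij, mul_zero, Matrix.diagonal_apply_ne _ hij]
  · intro k _ hk
    rw [Pi.basisFun_apply, Pi.single_eq_of_ne hk, mul_zero, zero_mul]
  · intro h
    exact absurd (Finset.mem_univ i) h

end adj

section

variable {F : Type} [Field F] [Fintype F] {n b : ℕ}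

theorem dc_dqF [DecidableEq F] (c : Fin n → F) : dc (dqF c) = quadraticChar F (∏ i, (2 * c i)) :=
  dc_diag c _ fun x y => by rw [coe_dqF, polar_dq]

theorem dc_sqF [DecidableEq F] (c : Fin n → F) (d : Fin b → F) : dc (sqF c d) = dc (dqF c) * dc (dqF d) := by
  rw [dc_dqF, dc_dqF, ← map_mul, dc_diag (Sum.elim c d)]
  · rw [Fintype.prod_sum_type]
    rfl
  · intro x y
    rw [coe_sqF, polar_sqf, polar_dq, polar_dq, Fintype.sum_sum_type]
    rfl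

omit [Fintype F] in
theorem negV_mulVec (c : Fin n → F) (d : Fin b → F) (u : Fin n ⊕ Fin b → F) : mx (negV c d) *ᵥ u = -u := by
  have h : mx (negV c d) = -1 := rfl
  rw [h, neg_mulVec, one_mulVec]

/-- coordinatewise application of a field automorphism -/
def sc (ι : Type) (σ : F ≃+* F) : (ι → F) ≃+ (ι → F) := AddEquiv.piCongrRight fun _ => σ.toAddEquiv

omit [Fintype F] in
theorem sc_apply {ι : Type} (σ : F ≃+* F) (v : ι → F) (i : ι) : sc ι σ v i = σ (v i) := rfl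

omit [Fintype F] in
theorem dq_sc (c : Fin n → F) (σ : F ≃+* F) (μ : F) (v : Fin n → F) :
    dq (fun i => μ * σ (c i)) v = μ * σ (dq c (sc _ σ.symm v)) := by
  simp only [dq, map_sum, map_mul, map_pow, sc_apply, RingEquiv.apply_symm_apply, Finset.mul_sum]
  exact Finset.sum_congr rfl fun i _ => by ring

end

/-- **Piece 12b.** -/
theorem pWitt' : PWitt := by
  classical
  intro F _ _ n c d hc hd hsq G _ ρ hρ g hg x₀ hx₀
  have h2 : (2 : F) ≠ 0 := two_ne' hc.odd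
  have hn := Sp_le hc
  obtain ⟨σ, μ, T, θ, hT, hθ, hρθ⟩ := semi_fun (coe_sqF c d) (nondeg_sqF h2 c d hc.ne hd)
    (by rw [Fintype.card_sum, Fintype.card_fin, Fintype.card_fin]; omega) ρ hρ g hg
  -- the linear map `S`
  let S : (Fin n ⊕ Fin 2 → F) ≃ₗ[F] (Fin n ⊕ Fin 2 → F) :=
    { (sc (Fin n ⊕ Fin 2) σ.symm).trans T with
      map_smul' := fun a v => by
        change T (sc _ σ.symm (a • v)) = a • T (sc _ σ.symm v)
        have : sc (Fin n ⊕ Fin 2) σ.symm (a • v) = σ.symm a • sc _ σ.symm v := by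
          ext i
          simp [sc_apply]
        rw [this, hT.2.1, RingEquiv.apply_symm_apply] }
  have hS : ∀ v, S v = T (sc _ σ.symm v) := fun v => rfl
  obtain ⟨c', hc'⟩ : ∃ c' : Fin n → F, c' = fun i => μ * σ (c i) := ⟨_, rfl⟩
  obtain ⟨d', hd'⟩ : ∃ d' : Fin 2 → F, d' = fun i => μ * σ (d i) := ⟨_, rfl⟩
  have c0 : ∀ i, c' i ≠ 0 := fun i => by
    rw [hc']
    exact mul_ne_zero hT.1 (by simpa using hc.ne i)
  have d0 : ∀ i, d' i ≠ 0 := fun i => by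
    rw [hd']
    exact mul_ne_zero hT.1 (by simpa using hd i)
  have hSQ : ∀ v, sqf c d (S v) = sqf c' d' v := by
    intro v
    rw [hS, hT.2.2]
    change μ * σ (dq c _ + dq d _) = dq c' (v ∘ Sum.inl) + dq d' (v ∘ Sum.inr)
    rw [hc', hd', dq_sc, dq_sc, map_add, mul_add]
    rfl
  have hiso : IsIso (sqF c' d') (sqF c d) S := fun v => by rw [coe_sqF, coe_sqF, hSQ]
  -- the discriminants
  have hdd : dc (dqF d') = dc (dqF d) := by
    rw [dc_dqF, dc_dqF]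
    have e1 : ∏ i, (2 * d' i) = (2 * μ) ^ 2 * σ (∏ i, d i) := by
      rw [hd', Fin.prod_univ_two, Fin.prod_univ_two, map_mul]
      ring
    have e2 : ∏ i, (2 * d i) = 2 ^ 2 * (∏ i, d i) := by
      rw [Fin.prod_univ_two, Fin.prod_univ_two]
      ring
    rw [e1, e2, qc_sq_mul (mul_ne_zero h2 hT.1), qc_sq_mul h2]
    have h0 : ∏ i, d i ≠ 0 := Finset.prod_ne_zero_iff.2 fun i _ => hd i
    rw [(quadraticChar_one_iff_isSquare h0).2 hsq, (quadraticChar_one_iff_isSquare (by simpa using h0)).2]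
    exact hsq.map σ
  have hcc : dc (dqF c') = dc (dqF c) := by
    have h1 := dc_iso hiso
    rw [dc_sqF, dc_sqF, hdd] at h1
    have h3 : dc (dqF d) ≠ 0 := by
      rcases dc_cases (nondeg_dqF h2 d hd) with h | h <;> rw [h] <;> decide
    exact (mul_right_cancel₀ h3 h1).symm
  obtain ⟨eU, heU⟩ := exists_iso h2 (nondeg_dqF h2 c hc.ne) (nondeg_dqF h2 c' c0) rfl hcc.symm
  obtain ⟨eP, heP⟩ := exists_iso h2 (nondeg_dqF h2 d hd) (nondeg_dqF h2 d' d0) rfl hdd.symm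
  -- the isometry
  let E : (Fin n ⊕ Fin 2 → F) ≃ₗ[F] (Fin n ⊕ Fin 2 → F) :=
    ((LinearEquiv.sumArrowLequivProdArrow (Fin n) (Fin 2) F F).trans (eU.prodCongr eP)).trans
      (LinearEquiv.sumArrowLequivProdArrow (Fin n) (Fin 2) F F).symm
  have hE : ∀ v, E v = Sum.elim (eU (v ∘ Sum.inl)) (eP (v ∘ Sum.inr)) := fun v => rfl
  obtain ⟨k₁, hk₁⟩ := exists_isom (Q := sqf c d) (E.trans S) (fun v => by
    rw [LinearEquiv.trans_apply, hSQ, hE, sqf_elim]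
    have h1 := heU (v ∘ Sum.inl)
    have h3 := heP (v ∘ Sum.inr)
    rw [coe_dqF, coe_dqF] at h1 h3
    rw [h1, h3])
  have hk₁' : ∀ v, mx k₁ *ᵥ v = T (sc _ σ.symm (E v)) := fun v => hk₁ v
  -- the sign
  obtain ⟨e, he, hx⟩ : ∃ e : F, (e = 1 ∨ e = -1) ∧ ∀ v, mx x₀.1 *ᵥ v =
      Sum.elim (e • (v ∘ Sum.inl)) (-e • (v ∘ Sum.inr)) := by
    have ht : ∀ v, mx (tau c d) *ᵥ v = Sum.elim (v ∘ Sum.inl) (-(v ∘ Sum.inr)) := by
      intro v
      have := bb_mulVec c d 1 (negI d) (v ∘ Sum.inl) (v ∘ Sum.inr)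
      rw [Sum.elim_comp_inl_inr] at this
      rw [tau, this, mx_one_mulVec]
      congr 1
      rw [negI, mx_negQ, neg_mulVec, one_mulVec]
    rcases hx₀ with h | h
    · refine ⟨1, Or.inl rfl, fun v => ?_⟩
      rw [h, ht, one_smul, neg_one_smul]
    · refine ⟨-1, Or.inr rfl, fun v => ?_⟩
      rw [h, coe_mul_mulVec, ht, negV_mulVec, neg_neg, one_smul, neg_one_smul]
      ext (i | i) <;> simp
  have he' : σ.symm e = e := by
    rcases he with rfl | rfl <;> simp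
  -- the adjustment
  obtain ⟨s, hs⟩ := adj_fun h2 (coe_dqF c) (coe_dqF d) (nondeg_bilin (nondeg_dqF h2 c hc.ne))
    (nondeg_bilin (nondeg_dqF h2 d hd)) (by simp) k₁
  have hcomm : bb c d 1 s * x₀.1 = x₀.1 * bb c d 1 s := by
    apply isometryGroup_ext
    intro v
    have h1 : ∀ v, mx (bb c d 1 s) *ᵥ v = Sum.elim (v ∘ Sum.inl) (mx s *ᵥ (v ∘ Sum.inr)) := by
      intro v
      have := bb_mulVec c d 1 s (v ∘ Sum.inl) (v ∘ Sum.inr)
      rw [Sum.elim_comp_inl_inr] at this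
      rw [this, mx_one_mulVec]
    rw [coe_mul_mulVec, coe_mul_mulVec, hx, h1, h1, hx, Sum.elim_comp_inl, Sum.elim_comp_inr,
      Sum.elim_comp_inl, Sum.elim_comp_inr, mulVec_smul]
  have hy : (θ x₀).1 * k₁ = k₁ * x₀.1 := by
    apply isometryGroup_ext
    intro v
    rw [coe_mul_mulVec, coe_mul_mulVec, hk₁', hθ, hx, hk₁', hx, hE, hE]
    congr 1
    ext (i | i)
    · simp [sc_apply, he']
    · simp [sc_apply, he']
  refine ⟨⟨k₁ * bb c d 1 s, hs⟩, ?_⟩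
  rw [hρθ]
  congr 1
  apply Subtype.ext
  change (θ x₀).1 = k₁ * bb c d 1 s * x₀.1 * (k₁ * bb c d 1 s)⁻¹
  rw [eq_mul_inv_iff_mul_eq, ← mul_assoc, hy, mul_assoc, mul_assoc, hcomm]

theorem pWitt : PSemi → PWitt := fun _ => pWitt'

end Cfsg.Agent.H410.OI
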